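import Mathlib
import Cfsg.Prelude.Def_ChevStructure
import Cfsg.Prelude.Def_LieChev
import Cfsg.Prelude.Def_ChevB2
import Cfsg.Prelude.Def_ChevD4
import Cfsg.Agent.Lib.Helper10.BGL.Defs

/-!
# Project BGL (designer helper10; S2190 + S2189), block SP (designer helper14): definitions

`span_main` (odd `p`): if the entries `(−ρ, ρ)` of all `m * h * m'` (`m m' ∈ L(k)`) lie in `k`, then `h ∈ G(K)` is rational.
Mathematics (all checked numerically for `p = 3, 5, 7`, see `SPSkel.lean.txt`):
* (C) the `K`-span of the columns `m' e_ρ` (`m' ∈ L(F_p)`) is everything (all 7 types, all odd `p`);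
* (R) a vector `w` such that `(m w)_{−ρ} = 0` for all `m ∈ L(F_p)` is `0`, except for `(G2, 3)` and `(E6, 3)`, where it lies in
  `NT = {w | w_s = 0, α_s(w) = 0 for all long s}` (the short root ideal, resp. the centre), which is `G(K)`-stable; then simplicity of `G(K)`.
Vectors are column vectors `D.Idx → K`; roots are natural numbers `< D.nroots`; `−ρ` has index `0`, `ρ` index `D.nroots - 1`.
-/

set_option autoImplicit false

namespace Cfsg.Agent.Lib.helper14.BGLSP

open Cfsg.Lie Cfsg.Lie.ChevalleyDatum Matrix

universe u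

/-- the coordinate of `w` at the root vector `e_s` (`0` if `s` is out of range) -/
def rc (D : ChevalleyDatum) {K : Type u} [Field K] (w : D.Idx → K) (s : ℕ) : K :=
  if h : s < D.nroots then w (Sum.inr ⟨s, h⟩) else 0

/-- the root vector `e_s` (`0` if `s` is out of range) -/
def re (D : ChevalleyDatum) (K : Type u) [Field K] (s : ℕ) : D.Idx → K :=
  if h : s < D.nroots then Pi.single (Sum.inr ⟨s, h⟩) 1 else 0

/-- the coordinate of `w` at `h_{p_i}` (`0` if `i` is out of range) -/
def hc (D : ChevalleyDatum) {K : Type u} [Field K] (w : D.Idx → K) (i : ℕ) : K :=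
  if h : i < D.rank then w (Sum.inl ⟨i, h⟩) else 0

/-- the Cartan vector `h_{p_i}` (`0` if `i` is out of range) -/
def he (D : ChevalleyDatum) (K : Type u) [Field K] (i : ℕ) : D.Idx → K :=
  if h : i < D.rank then Pi.single (Sum.inl ⟨i, h⟩) 1 else 0

/-- the root `s` as a linear form on the Cartan part: `α_s(w) = Σ_i A_{p_i, s} w_i` -/
def alpha (D : ChevalleyDatum) {K : Type u} [Field K] (s : ℕ) (w : D.Idx → K) : K :=
  ∑ i : Fin D.rank, ((D.cartan i.val s : ℤ) : K) * w (Sum.inl i)

/-- the coefficient `c_i(s)` of the coroot `h_s` on `h_{p_i}` -/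
def cor (D : ChevalleyDatum) (s i : ℕ) : ℤ := (D.coroot.getD s #[]).getD i 0

/-- the coroot vector `h_s = Σ_i c_i(s) h_{p_i}` -/
def hvec (D : ChevalleyDatum) (K : Type u) [Field K] (s : ℕ) : D.Idx → K :=
  Sum.elim (fun i : Fin D.rank => ((cor D s i.val : ℤ) : K)) (fun _ => 0)

/-- the polynomial entry of `x_r(t)` in row `e_u`, column `e_s` (`s ≠ ±r`), without the diagonal term -/
def cc (D : ChevalleyDatum) {K : Type u} [Field K] (r s u : ℕ) (t : K) : K :=
  ((D.chainCoeff r s u).map fun km => ((km.2 : ℤ) : K) * t ^ km.1).sum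

/-- a set of vectors is stable under all `x_s(1)`, `x_s(-1)` -/
def StabP (D : ChevalleyDatum) {K : Type u} [Field K] (P : (D.Idx → K) → Prop) : Prop :=
  ∀ s < D.nroots, ∀ w, P w → P (D.x K s 1 *ᵥ w) ∧ P (D.x K s (-1) *ᵥ w)

/-- the subspace cut out by the long root coordinates and the long roots:
`{w | w_s = 0 and α_s(w) = 0 for all s ∈ lam}` -/
def NT (D : ChevalleyDatum) (K : Type u) [Field K] (lam : List ℕ) : Submodule K (D.Idx → K) where
  carrier := {w | (∀ s ∈ lam, rc D w s = 0) ∧ ∀ s ∈ lam, alpha D s w = 0}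
  add_mem' := by
    rintro a b ⟨ha1, ha2⟩ ⟨hb1, hb2⟩
    refine ⟨fun s hs => ?_, fun s hs => ?_⟩
    · have h1 := ha1 s hs
      have h2 := hb1 s hs
      unfold rc at h1 h2 ⊢
      split_ifs at h1 h2 ⊢ with h
      · rw [Pi.add_apply, h1, h2, add_zero]
      · rfl
    · have h1 := ha2 s hs
      have h2 := hb2 s hs
      unfold alpha at h1 h2 ⊢
      simp only [Pi.add_apply, mul_add, Finset.sum_add_distrib, h1, h2, add_zero]
  zero_mem' := by
    refine ⟨fun s _ => ?_, fun s _ => ?_⟩
    · unfold rc; split_ifs <;> rfl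
    · unfold alpha; simp
  smul_mem' := by
    rintro c a ⟨ha1, ha2⟩
    refine ⟨fun s hs => ?_, fun s hs => ?_⟩
    · have h1 := ha1 s hs
      unfold rc at h1 ⊢
      split_ifs at h1 ⊢ with h
      · rw [Pi.smul_apply, h1, smul_zero]
      · rfl
    · have h1 := ha2 s hs
      unfold alpha at h1 ⊢
      simp only [Pi.smul_apply, smul_eq_mul]
      have : ∀ i : Fin D.rank, ((D.cartan i.val s : ℤ) : K) * (c * a (Sum.inl i)) =
          c * (((D.cartan i.val s : ℤ) : K) * a (Sum.inl i)) := fun i => by ring
      simp only [this, ← Finset.mul_sum, h1, mul_zero]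

/-! ## table checks -/

/-- `lam` is the orbit of the root `0 = −ρ` under the simple reflections (witness: depth `dep` and parent reflection `par`),
closed under `−`; `−0` is the last root. -/
def spOrbChk (D : ChevalleyDatum) (lam dep par : List ℕ) : Bool :=
  decide (0 < D.nroots) && decide (D.neg 0 = D.nroots - 1) && lam.contains 0 &&
  lam.all fun s =>
    decide (s < D.nroots) && lam.contains (D.neg s) &&
    (decide (s = 0) ||
      (decide (par.getD s 0 < D.rank) && lam.contains (D.reflectRoot (par.getD s 0) s) &&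
        decide (dep.getD (D.reflectRoot (par.getD s 0) s) 0 < dep.getD s 0)))

/-- basic facts on `−` and the simple roots, and: the `r`-chain through `s` does not contain `r`. -/
def spBaseChk (D : ChevalleyDatum) : Bool :=
  ((List.range D.nroots).all fun r =>
    decide (D.neg r < D.nroots) && decide (D.neg r ≠ r) && decide (D.neg (D.neg r) = r) &&
    (D.chain.getD r #[]).toList.all fun e => e.2.toList.all fun q => decide (q.1 ≠ r)) &&
  ((List.range D.rank).all fun i =>
    decide (D.simple i < D.nroots) && decide (D.cartan i (D.simple i) = 2) &&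
    decide (cor D (D.simple i) i = 1) && decide (cor D (D.neg (D.simple i)) i = -1))

/-- `Σ_j X[i][j] * A_{p_i', xs[j]} = d * δ_{i i'}` with `xs[j] ∈ lam`: the forms `α_s` (`s ∈ lam`) span `d` times the dual of the Cartan part. -/
def spXChk (D : ChevalleyDatum) (lam xs : List ℕ) (X : List (List ℤ)) (d : ℤ) : Bool :=
  ((List.range D.rank).all fun i => (List.range D.rank).all fun i' =>
    decide (((List.range xs.length).map fun j => (X.getD i []).getD j 0 * D.cartan i' (xs.getD j 0)).sum =
      if i = i' then d else 0)) &&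
  xs.all fun s => lam.contains s

/-- `Σ_j Y[i][j] * c_{i'}(ys[j]) = δ_{i i'}` with `ys[j] ∈ lam`: the coroots `h_s` (`s ∈ lam`) span the Cartan part. -/
def spYChk (D : ChevalleyDatum) (lam ys : List ℕ) (Y : List (List ℤ)) : Bool :=
  ((List.range D.rank).all fun i => (List.range D.rank).all fun i' =>
    decide (((List.range ys.length).map fun j => (Y.getD i []).getD j 0 * cor D (ys.getD j 0) i').sum =
      if i = i' then 1 else 0)) &&
  ys.all fun s => lam.contains s

/-- the divisibility facts which make `NT D K lam` stable under `G(K)` in characteristic `p` -/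
def spExcChk (D : ChevalleyDatum) (lam : List ℕ) (p : ℕ) : Bool :=
  (lam.all fun s => (List.range D.nroots).all fun r =>
    lam.contains (D.neg r) ||
      decide ((p : ℤ) ∣ ((List.range D.rank).map fun i => D.cartan i s * cor D r i).sum)) &&
  ((List.range D.nroots).all fun r => (D.chain.getD r #[]).toList.all fun e =>
    lam.contains e.1 || e.2.toList.all fun q => !lam.contains q.1 || decide ((p : ℤ) ∣ q.2))

end Cfsg.Agent.Lib.helper14.BGLSP
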