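import Mathlib
import Cfsg.Agent.Lib.helper14.BGL.SPDefs
import Cfsg.Agent.Lib.helper8.ChevBase
import Cfsg.Agent.Lib.helper8.ChevW0
import Cfsg.Agent.Lib.helper8.ChevBN3

/-!
# Project BGL, block SP (designer helper14): the bundle of table hypotheses
-/

set_option autoImplicit false

namespace Cfsg.Agent.Lib.helper14.BGLSP

open Cfsg.Lie Cfsg.Lie.ChevalleyDatum Cfsg.Agent.Lib.helper8 Matrix

/-- the table facts used by block SP for the datum `D` and the list `lam` of long roots -/
structure SPTab (D : ChevalleyDatum) (lam : List ℕ) : Prop where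
  orb : ∃ dep par : List ℕ, spOrbChk D lam dep par = true
  base : spBaseChk D = true
  refl : H8ReflAll D
  bn : H8BN D

end Cfsg.Agent.Lib.helper14.BGLSP
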