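import Mathlib
import Cfsg.Prelude.Def_ChevB2
import Cfsg.Agent.Lib.helper14.BGL.SPDefs

/-! Project BGL, block SP (helper14): table witnesses for `chevB2` (generated by `~/work/sp/gen.py`). -/

set_option autoImplicit false

namespace Cfsg.Agent.Lib.helper14.BGLSP

open Cfsg.Lie

def spLam_B2 : List ℕ := [0, 3, 4, 7]

def spDep_B2 : List ℕ := [0, 0, 0, 1, 2, 0, 0, 3]

def spPar_B2 : List ℕ := [0, 0, 0, 0, 1, 0, 0, 0]

def spXs_B2 : List ℕ := [4, 0]

def spX_B2 : List (List ℤ) := [[0, -2], [2, -2]]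

def spYs_B2 : List ℕ := [4, 0]

def spY_B2 : List (List ℤ) := [[-1, -1], [1, 0]]

set_option maxRecDepth 100000 in
theorem spOrbChk_B2 : spOrbChk chevB2 spLam_B2 spDep_B2 spPar_B2 = true := by decide +kernel

set_option maxRecDepth 100000 in
theorem spBaseChk_B2 : spBaseChk chevB2 = true := by decide +kernel

set_option maxRecDepth 100000 in
theorem spXChk_B2 : spXChk chevB2 spLam_B2 spXs_B2 spX_B2 4 = true := by decide +kernel

set_option maxRecDepth 100000 in
theorem spYChk_B2 : spYChk chevB2 spLam_B2 spYs_B2 spY_B2 = true := by decide +kernel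

end Cfsg.Agent.Lib.helper14.BGLSP
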