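import Mathlib
import Cfsg.Prelude.Def_ChevD4
import Cfsg.Agent.Lib.helper14.BGL.SPDefs

/-! Project BGL, block SP (helper14): table witnesses for `chevD4` (generated by `~/work/sp/gen.py`). -/

set_option autoImplicit false

namespace Cfsg.Agent.Lib.helper14.BGLSP

open Cfsg.Lie

def spLam_D4 : List ℕ := [0, 1, 2, 3, 4, 5, 6, 7, 8, 9, 10, 11, 12, 13, 14, 15, 16, 17, 18, 19, 20, 21, 22, 23]

def spDep_D4 : List ℕ := [0, 1, 2, 2, 3, 4, 2, 3, 3, 4, 4, 4, 5, 5, 5, 6, 6, 7, 5, 6, 7, 7, 8, 9]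

def spPar_D4 : List ℕ := [0, 1, 3, 2, 3, 1, 0, 3, 2, 3, 1, 1, 3, 2, 1, 1, 2, 2, 0, 0, 0, 2, 2, 1]

def spXs_D4 : List ℕ := [18, 14, 13, 12]

def spX_D4 : List (List ℤ) := [[4, 4, 2, 2], [4, 8, 4, 4], [2, 4, 4, 2], [2, 4, 2, 4]]

def spYs_D4 : List ℕ := [18, 14, 13, 12]

def spY_D4 : List (List ℤ) := [[1, 0, 0, 0], [0, 1, 0, 0], [0, 0, 1, 0], [0, 0, 0, 1]]

set_option maxRecDepth 100000 in
theorem spOrbChk_D4 : spOrbChk chevD4 spLam_D4 spDep_D4 spPar_D4 = true := by decide +kernel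

set_option maxRecDepth 100000 in
theorem spBaseChk_D4 : spBaseChk chevD4 = true := by decide +kernel

set_option maxRecDepth 100000 in
theorem spXChk_D4 : spXChk chevD4 spLam_D4 spXs_D4 spX_D4 4 = true := by decide +kernel

set_option maxRecDepth 100000 in
theorem spYChk_D4 : spYChk chevD4 spLam_D4 spYs_D4 spY_D4 = true := by decide +kernel

end Cfsg.Agent.Lib.helper14.BGLSP
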