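import Mathlib
import Cfsg.Prelude.Def_ChevE6
import Cfsg.Agent.Lib.helper14.BGL.SPDefs

/-! Project BGL, block SP (helper14): table witnesses for `chevE6` (generated by `~/work/sp/gen.py`). -/

set_option autoImplicit false

namespace Cfsg.Agent.Lib.helper14.BGLSP

open Cfsg.Lie

def spLam_E6 : List ℕ := [0, 1, 2, 3, 4, 5, 6, 7, 8, 9, 10, 11, 12, 13, 14, 15, 16, 17, 18, 19, 20, 21, 22, 23, 24, 25, 26, 27, 28, 29, 30, 31, 32, 33, 34, 35, 36, 37, 38, 39, 40, 41, 42, 43, 44, 45, 46, 47, 48, 49, 50, 51, 52, 53, 54, 55, 56, 57, 58, 59, 60, 61, 62, 63, 64, 65, 66, 67, 68, 69, 70, 71]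

def spDep_E6 : List ℕ := [0, 1, 2, 3, 4, 3, 4, 5, 5, 6, 7, 6, 7, 8, 9, 10, 4, 5, 6, 6, 7, 8, 7, 8, 9, 10, 7, 8, 9, 10, 8, 9, 10, 9, 10, 10, 11, 11, 12, 11, 12, 13, 11, 12, 13, 14, 11, 12, 13, 14, 13, 14, 15, 15, 16, 17, 11, 12, 13, 14, 15, 14, 15, 16, 16, 17, 18, 17, 18, 19, 20, 21]

def spPar_E6 : List ℕ := [0, 1, 3, 4, 5, 2, 4, 5, 3, 5, 4, 1, 5, 4, 3, 2, 0, 4, 5, 3, 5, 4, 2, 5, 4, 3, 1, 5, 4, 3, 2, 5, 4, 3, 5, 4, 5, 4, 4, 3, 3, 3, 2, 2, 2, 2, 1, 1, 1, 1, 2, 2, 2, 3, 3, 4, 0, 0, 0, 0, 0, 0, 0, 0, 3, 3, 4, 2, 2, 4, 3, 1]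

def spXs_E6 : List ℕ := [56, 46, 42, 39, 37, 36]

def spX_E6 : List (List ℤ) := [[4, 3, 5, 6, 4, 2], [3, 6, 6, 9, 6, 3], [5, 6, 10, 12, 8, 4], [6, 9, 12, 18, 12, 6], [4, 6, 8, 12, 10, 5], [2, 3, 4, 6, 5, 4]]

def spYs_E6 : List ℕ := [56, 46, 42, 39, 37, 36]

def spY_E6 : List (List ℤ) := [[1, 0, 0, 0, 0, 0], [0, 1, 0, 0, 0, 0], [0, 0, 1, 0, 0, 0], [0, 0, 0, 1, 0, 0], [0, 0, 0, 0, 1, 0], [0, 0, 0, 0, 0, 1]]

set_option maxRecDepth 100000 in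
theorem spOrbChk_E6 : spOrbChk chevE6 spLam_E6 spDep_E6 spPar_E6 = true := by decide +kernel

set_option maxRecDepth 100000 in
theorem spBaseChk_E6 : spBaseChk chevE6 = true := by decide +kernel

set_option maxRecDepth 100000 in
theorem spXChk_E6 : spXChk chevE6 spLam_E6 spXs_E6 spX_E6 3 = true := by decide +kernel

set_option maxRecDepth 100000 in
theorem spYChk_E6 : spYChk chevE6 spLam_E6 spYs_E6 spY_E6 = true := by decide +kernel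

set_option maxRecDepth 100000 in
theorem spExcChk_E6 : spExcChk chevE6 spLam_E6 3 = true := by decide +kernel

end Cfsg.Agent.Lib.helper14.BGLSP
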