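import Mathlib
import Cfsg.Prelude.Def_ChevE7
import Cfsg.Agent.Lib.helper14.BGL.SPDefs

/-! Project BGL, block SP (helper14): table witnesses for `chevE7` (generated by `~/work/sp/gen.py`). -/

set_option autoImplicit false

namespace Cfsg.Agent.Lib.helper14.BGLSP

open Cfsg.Lie

def spLam_E7 : List ℕ := [0, 1, 2, 3, 4, 5, 6, 7, 8, 9, 10, 11, 12, 13, 14, 15, 16, 17, 18, 19, 20, 21, 22, 23, 24, 25, 26, 27, 28, 29, 30, 31, 32, 33, 34, 35, 36, 37, 38, 39, 40, 41, 42, 43, 44, 45, 46, 47, 48, 49, 50, 51, 52, 53, 54, 55, 56, 57, 58, 59, 60, 61, 62, 63, 64, 65, 66, 67, 68, 69, 70, 71, 72, 73, 74, 75, 76, 77, 78, 79, 80, 81, 82, 83, 84, 85, 86, 87, 88, 89, 90, 91, 92, 93, 94, 95, 96, 97, 98, 99, 100, 101, 102, 103, 104, 105, 106, 107, 108, 109, 110, 111, 112, 113, 114, 115, 116, 117, 118, 119, 120, 121, 122, 123,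 124, 125]

def spDep_E7 : List ℕ := [0, 1, 2, 3, 4, 5, 6, 4, 5, 6, 7, 6, 7, 8, 8, 9, 10, 7, 8, 9, 9, 10, 11, 10, 11, 12, 13, 11, 12, 13, 14, 15, 16, 8, 9, 10, 10, 11, 12, 11, 12, 13, 14, 12, 13, 14, 15, 16, 12, 13, 14, 15, 16, 13, 14, 15, 16, 14, 15, 16, 15, 16, 16, 17, 17, 18, 17, 18, 19, 17, 18, 19, 20, 17, 18, 19, 20, 21, 17, 18, 19, 20, 21, 19, 20, 21, 22, 21, 22, 23, 23, 24, 25, 17, 18, 19, 20, 21, 22, 20, 21, 22, 23, 22, 23, 24, 24, 25, 26, 23, 24, 25, 25, 26, 27, 26, 27, 28, 29, 27, 28, 29, 30, 31, 32, 33]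

def spPar_E7 : List ℕ := [0, 0, 2, 3, 4, 5, 6, 1, 4, 5, 6, 3, 5, 6, 4, 6, 5, 2, 5, 6, 4, 6, 5, 3, 6, 5, 4, 1, 6, 5, 4, 3, 2, 0, 5, 6, 4, 6, 5, 3, 6, 5, 4, 2, 6, 5, 4, 3, 1, 6, 5, 4, 3, 2, 6, 5, 4, 3, 6, 5, 4, 6, 5, 6, 5, 5, 4, 4, 4, 3, 3, 3, 3, 2, 2, 2, 2, 2, 1, 1, 1, 1, 1, 2, 2, 2, 2, 3, 3, 3, 4, 4, 5, 0, 0, 0, 0, 0, 0, 0, 0, 0, 0, 3, 3, 3, 4, 4, 5, 2, 2, 2, 4, 4, 5, 3, 3, 5, 4, 1, 1, 5, 4, 3, 2, 0]

def spXs_E7 : List ℕ := [93, 78, 73, 69, 66, 64, 63]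

def spX_E7 : List (List ℤ) := [[4, 4, 6, 8, 6, 4, 2], [4, 7, 8, 12, 9, 6, 3], [6, 8, 12, 16, 12, 8, 4], [8, 12, 16, 24, 18, 12, 6], [6, 9, 12, 18, 15, 10, 5], [4, 6, 8, 12, 10, 8, 4], [2, 3, 4, 6, 5, 4, 3]]

def spYs_E7 : List ℕ := [93, 78, 73, 69, 66, 64, 63]

def spY_E7 : List (List ℤ) := [[1, 0, 0, 0, 0, 0, 0], [0, 1, 0, 0, 0, 0, 0], [0, 0, 1, 0, 0, 0, 0], [0, 0, 0, 1, 0, 0, 0], [0, 0, 0, 0, 1, 0, 0], [0, 0, 0, 0, 0, 1, 0], [0, 0, 0, 0, 0, 0, 1]]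

set_option maxRecDepth 100000 in
theorem spOrbChk_E7 : spOrbChk chevE7 spLam_E7 spDep_E7 spPar_E7 = true := by decide +kernel

set_option maxRecDepth 100000 in
theorem spBaseChk_E7 : spBaseChk chevE7 = true := by decide +kernel

set_option maxRecDepth 100000 in
theorem spXChk_E7 : spXChk chevE7 spLam_E7 spXs_E7 spX_E7 2 = true := by decide +kernel

set_option maxRecDepth 100000 in
theorem spYChk_E7 : spYChk chevE7 spLam_E7 spYs_E7 spY_E7 = true := by decide +kernel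

end Cfsg.Agent.Lib.helper14.BGLSP
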