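import Mathlib
import Cfsg.Prelude.Def_ChevE8
import Cfsg.Agent.Lib.helper14.BGL.SPDefs

/-! Project BGL, block SP (helper14): table witnesses for `chevE8` (generated by `~/work/sp/gen.py`). -/

set_option autoImplicit false

namespace Cfsg.Agent.Lib.helper14.BGLSP

open Cfsg.Lie

def spLam_E8 : List ℕ := [0, 1, 2, 3, 4, 5, 6, 7, 8, 9, 10, 11, 12, 13, 14, 15, 16, 17, 18, 19, 20, 21, 22, 23, 24, 25, 26, 27, 28, 29, 30, 31, 32, 33, 34, 35, 36, 37, 38, 39, 40, 41, 42, 43, 44, 45, 46, 47, 48, 49, 50, 51, 52, 53, 54, 55, 56, 57, 58, 59, 60, 61, 62, 63, 64, 65, 66, 67, 68, 69, 70, 71, 72, 73, 74, 75, 76, 77, 78, 79, 80, 81, 82, 83, 84, 85, 86, 87, 88, 89, 90, 91, 92, 93, 94, 95, 96, 97, 98, 99, 100, 101, 102, 103, 104, 105, 106, 107, 108, 109, 110, 111, 112, 113, 114, 115, 116, 117, 118, 119, 120, 121, 122,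 123, 124, 125, 126, 127, 128, 129, 130, 131, 132, 133, 134, 135, 136, 137, 138, 139, 140, 141, 142, 143, 144, 145, 146, 147, 148, 149, 150, 151, 152, 153, 154, 155, 156, 157, 158, 159, 160, 161, 162, 163, 164, 165, 166, 167, 168, 169, 170, 171, 172, 173, 174, 175, 176, 177, 178, 179, 180, 181, 182, 183, 184, 185, 186, 187, 188, 189, 190, 191, 192, 193, 194, 195, 196, 197, 198, 199, 200, 201, 202, 203, 204, 205, 206, 207, 208, 209, 210, 211, 212, 213, 214, 215, 216, 217, 218, 219, 220, 221, 222, 223, 224, 225, 226, 227, 228, 229, 230, 231, 232, 233, 234, 235, 236, 237, 238, 239]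

def spDep_E8 : List ℕ := [0, 1, 2, 3, 4, 5, 6, 6, 7, 8, 9, 10, 11, 12, 7, 8, 9, 10, 11, 12, 13, 10, 11, 12, 13, 14, 12, 13, 14, 15, 14, 15, 16, 16, 17, 18, 13, 14, 15, 16, 15, 16, 17, 17, 18, 19, 16, 17, 18, 18, 19, 20, 19, 20, 21, 22, 17, 18, 19, 19, 20, 21, 20, 21, 22, 23, 21, 22, 23, 24, 25, 22, 23, 24, 25, 26, 27, 28, 18, 19, 20, 20, 21, 22, 21, 22, 23, 24, 22, 23, 24, 25, 26, 23, 24, 25, 26, 27, 28, 23, 24, 25, 26, 27, 28, 24, 25, 26, 27, 28, 25, 26, 27, 28, 26, 27, 28, 27, 28, 28, 29, 29, 30, 29, 30, 31, 29, 30, 31, 32, 29, 30, 31, 32, 33, 29, 30, 31, 32, 33, 34, 29, 30, 31, 32, 33, 34, 31, 32, 33, 34, 35, 33, 34, 35, 36, 35, 36, 37, 37, 38, 39, 29, 30, 31, 32, 33, 34, 35, 32, 33, 34, 35, 36, 34, 35, 36, 37, 36, 37, 38, 38, 39, 40, 35, 36, 37, 38, 37, 38, 39, 39, 40, 41, 38, 39, 40, 40, 41, 42,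 41, 42, 43, 44, 39, 40, 41, 41, 42, 43, 42, 43, 44, 45, 43, 44, 45, 46, 47, 44, 45, 46, 47, 48, 49, 50, 45, 46, 47, 48, 49, 50, 51, 51, 52, 53, 54, 55, 56, 57]

def spPar_E8 : List ℕ := [0, 7, 6, 5, 4, 3, 2, 1, 2, 3, 4, 5, 6, 7, 0, 0, 3, 4, 5, 6, 7, 2, 4, 5, 6, 7, 3, 5, 6, 7, 4, 6, 7, 5, 7, 6, 1, 5, 6, 7, 4, 6, 7, 5, 7, 6, 3, 6, 7, 5, 7, 6, 4, 7, 6, 5, 2, 6, 7, 5, 7, 6, 4, 7, 6, 5, 3, 7, 6, 5, 4, 1, 7, 6, 5, 4, 3, 2, 0, 6, 7, 5, 7, 6, 4, 7, 6, 5, 3, 7, 6, 5, 4, 2, 7, 6, 5, 4, 3, 1, 7, 6, 5, 4, 3, 2, 7, 6, 5, 4, 3, 7, 6, 5, 4, 7, 6, 5, 7, 6, 7, 6, 6, 5, 5, 5, 4, 4, 4, 4, 3, 3, 3, 3, 3, 2, 2, 2, 2, 2, 2, 1, 1, 1, 1, 1, 1, 2, 2, 2, 2, 2, 3, 3, 3, 3, 4, 4, 4, 5, 5, 6, 0, 0, 0, 0, 0, 0, 0, 0, 0, 0, 0, 0, 3, 3, 3, 3, 4, 4, 4, 5, 5, 6, 2, 2, 2, 2, 4, 4, 4, 5, 5, 6, 3, 3, 3, 5, 5, 6, 4, 4, 6, 5, 1, 1, 1, 5,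 5, 6, 4, 4, 6, 5, 3, 3, 6, 5, 4, 2, 2, 6, 5, 4, 3, 1, 0, 0, 6, 5, 4, 3, 2, 1, 2, 3, 4, 5, 6, 7]

def spXs_E8 : List ℕ := [162, 141, 135, 130, 126, 123, 121, 120]

def spX_E8 : List (List ℤ) := [[4, 5, 7, 10, 8, 6, 4, 2], [5, 8, 10, 15, 12, 9, 6, 3], [7, 10, 14, 20, 16, 12, 8, 4], [10, 15, 20, 30, 24, 18, 12, 6], [8, 12, 16, 24, 20, 15, 10, 5], [6, 9, 12, 18, 15, 12, 8, 4], [4, 6, 8, 12, 10, 8, 6, 3], [2, 3, 4, 6, 5, 4, 3, 2]]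

def spYs_E8 : List ℕ := [162, 141, 135, 130, 126, 123, 121, 120]

def spY_E8 : List (List ℤ) := [[1, 0, 0, 0, 0, 0, 0, 0], [0, 1, 0, 0, 0, 0, 0, 0], [0, 0, 1, 0, 0, 0, 0, 0], [0, 0, 0, 1, 0, 0, 0, 0], [0, 0, 0, 0, 1, 0, 0, 0], [0, 0, 0, 0, 0, 1, 0, 0], [0, 0, 0, 0, 0, 0, 1, 0], [0, 0, 0, 0, 0, 0, 0, 1]]

set_option maxRecDepth 100000 in
theorem spOrbChk_E8 : spOrbChk chevE8 spLam_E8 spDep_E8 spPar_E8 = true := by decide +kernel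

set_option maxRecDepth 100000 in
theorem spBaseChk_E8 : spBaseChk chevE8 = true := by decide +kernel

set_option maxRecDepth 100000 in
theorem spXChk_E8 : spXChk chevE8 spLam_E8 spXs_E8 spX_E8 1 = true := by decide +kernel

set_option maxRecDepth 100000 in
theorem spYChk_E8 : spYChk chevE8 spLam_E8 spYs_E8 spY_E8 = true := by decide +kernel

end Cfsg.Agent.Lib.helper14.BGLSP
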