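import Mathlib
import Cfsg.Prelude.Def_ChevF4
import Cfsg.Agent.Lib.helper14.BGL.SPDefs

/-! Project BGL, block SP (helper14): table witnesses for `chevF4` (generated by `~/work/sp/gen.py`). -/

set_option autoImplicit false

namespace Cfsg.Agent.Lib.helper14.BGLSP

open Cfsg.Lie

def spLam_F4 : List ℕ := [0, 1, 2, 4, 5, 6, 15, 16, 17, 21, 22, 23, 24, 25, 26, 30, 31, 32, 41, 42, 43, 45, 46, 47]

def spDep_F4 : List ℕ := [0, 1, 2, 0, 3, 4, 5, 0, 0, 0, 0, 0, 0, 0, 0, 4, 5, 6, 0, 0, 0, 6, 7, 7, 8, 8, 9, 0, 0, 0, 9, 10, 11, 0, 0, 0, 0, 0, 0, 0, 0, 10, 11, 12, 0, 13, 14, 15]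

def spPar_F4 : List ℕ := [0, 3, 2, 0, 1, 2, 3, 0, 0, 0, 0, 0, 0, 0, 0, 0, 2, 3, 0, 0, 0, 1, 3, 2, 3, 2, 2, 0, 0, 0, 1, 1, 2, 0, 0, 0, 0, 0, 0, 0, 0, 0, 0, 2, 0, 1, 2, 3]

def spXs_F4 : List ℕ := [1, 2, 32, 4]

def spX_F4 : List (List ℤ) := [[0, -2, 0, -2], [0, -4, 2, -2], [0, -4, 4, -4], [4, -4, 4, -4]]

def spYs_F4 : List ℕ := [1, 2, 32, 4]

def spY_F4 : List (List ℤ) := [[0, 0, -1, -1], [0, -1, 0, 1], [-1, 1, 0, 0], [2, -1, 1, -1]]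

set_option maxRecDepth 100000 in
theorem spOrbChk_F4 : spOrbChk chevF4 spLam_F4 spDep_F4 spPar_F4 = true := by decide +kernel

set_option maxRecDepth 100000 in
theorem spBaseChk_F4 : spBaseChk chevF4 = true := by decide +kernel

set_option maxRecDepth 100000 in
theorem spXChk_F4 : spXChk chevF4 spLam_F4 spXs_F4 spX_F4 4 = true := by decide +kernel

set_option maxRecDepth 100000 in
theorem spYChk_F4 : spYChk chevF4 spLam_F4 spYs_F4 spY_F4 = true := by decide +kernel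

end Cfsg.Agent.Lib.helper14.BGLSP
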