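import Mathlib
import Cfsg.Prelude.Def_ChevG2
import Cfsg.Agent.Lib.helper14.BGL.SPDefs

/-! Project BGL, block SP (helper14): table witnesses for `chevG2` (generated by `~/work/sp/gen.py`). -/

set_option autoImplicit false

namespace Cfsg.Agent.Lib.helper14.BGLSP

open Cfsg.Lie

def spLam_G2 : List ℕ := [0, 1, 5, 6, 10, 11]

def spDep_G2 : List ℕ := [0, 1, 0, 0, 0, 2, 3, 0, 0, 0, 4, 5]

def spPar_G2 : List ℕ := [0, 1, 0, 0, 0, 0, 1, 0, 0, 0, 0, 1]

def spXs_G2 : List ℕ := [5, 1]

def spX_G2 : List (List ℤ) := [[-1, -2], [-3, -3]]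

def spYs_G2 : List ℕ := [5, 1]

def spY_G2 : List (List ℤ) := [[1, -1], [-1, 0]]

set_option maxRecDepth 100000 in
theorem spOrbChk_G2 : spOrbChk chevG2 spLam_G2 spDep_G2 spPar_G2 = true := by decide +kernel

set_option maxRecDepth 100000 in
theorem spBaseChk_G2 : spBaseChk chevG2 = true := by decide +kernel

set_option maxRecDepth 100000 in
theorem spXChk_G2 : spXChk chevG2 spLam_G2 spXs_G2 spX_G2 3 = true := by decide +kernel

set_option maxRecDepth 100000 in
theorem spYChk_G2 : spYChk chevG2 spLam_G2 spYs_G2 spY_G2 = true := by decide +kernel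

set_option maxRecDepth 100000 in
theorem spExcChk_G2 : spExcChk chevG2 spLam_G2 3 = true := by decide +kernel

end Cfsg.Agent.Lib.helper14.BGLSP
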