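import Mathlib
import Cfsg.Agent.Lib.Helper10.BGL.Bridge
import Cfsg.Agent.Lib.helper8.ChevOrd4
import Cfsg.Agent.Lib.helper8.ChevBaseAll

/-!
# Project BGL, block UK (`uk_main`, `bk_main`, `p = 2`; designer helper14): definitions

`ukV D K m`   : the filtration subgroup `V_m = ⟨x_r(t) : r > 0, r ≥ m⟩` of `U(K)` (index filtration).
`ukKap D hB γ g` : the commutator `κ_γ(g) = x_γ(1)⁻¹ g⁻¹ x_γ(1) g`; for `g = x_r(c)` it is the word
                 `commWord r γ c 1` of the commutator formula.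
`UkLT D m γ m'` : table condition making `κ_γ(x_m(t) v) ∈ x_{m'}(t) V_{m'+1}` for `v ∈ V_{m+1}` in
                 characteristic `2` (leading term of the commutator); `ukLTChk` its Bool version.
`UkB2Rel`      : the relations (characteristic 2) of the root groups of a `B₂` subsystem
                 `a` short, `b` long, `s = a + b`, `l = 2a + b`, `na = -a`, `nb = -b`.
See `UKSkel.lean.txt` / `UKPLAN.md` in this folder.
-/

set_option autoImplicit false

namespace Cfsg.Agent.Lib.helper14.BGLUK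

open Cfsg.Lie Cfsg.Lie.ChevalleyDatum Cfsg.Agent.Lib.helper8

universe u

/-- the filtration subgroup `V_m` of `U(K)` -/
def ukV (D : ChevalleyDatum) (K : Type u) [Field K] (m : ℕ) : Subgroup (GL D.Idx K) :=
  Subgroup.closure (h8VkSet D K m)

/-- the commutator `κ_γ(g) = x_γ(1)⁻¹ g⁻¹ x_γ(1) g` -/
def ukKap {K : Type u} [Field K] (D : ChevalleyDatum) (hB : H8Base.{u} D) (γ : ℕ)
    (g : GL D.Idx K) : GL D.Idx K :=
  (h8xU D hB γ (1 : K))⁻¹ * g⁻¹ * h8xU D hB γ (1 : K) * g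

/-- table condition for the leading term of `κ_γ` on `x_m(t) V_{m+1}` -/
structure UkLT (D : ChevalleyDatum) (m γ m' : ℕ) : Prop where
  hm : D.IsPosRoot m
  hγ : γ < D.nroots
  hne : γ ≠ m
  hneg : γ ≠ D.negIdx.getD m 0
  hm' : D.IsPosRoot m'
  lead : ∃ (L1 L2 : List (ℕ × ℤ × ℕ × ℕ)) (c0 : ℤ) (j0 : ℕ),
    D.commTerms m γ = L1 ++ (m', c0, 1, j0) :: L2 ∧ c0 % 2 = 1 ∧
      ∀ c ∈ L1 ++ L2, D.IsPosRoot c.1 ∧ m' < c.1
  rest : ∀ r, m < r → D.IsPosRoot r → r ≠ γ →
    γ ≠ D.negIdx.getD r 0 ∧ ∀ c ∈ D.commTerms r γ, D.IsPosRoot c.1 ∧ m' < c.1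

/-- Bool version of `UkLT` -/
def ukLTChk (D : ChevalleyDatum) (m γ m' : ℕ) : Bool :=
  decide (D.IsPosRoot m) && decide (γ < D.nroots) && decide (γ ≠ m) &&
  decide (γ ≠ D.negIdx.getD m 0) && decide (D.IsPosRoot m') &&
  decide (((D.commTerms m γ).filter fun c => decide (c.1 = m')).length = 1) &&
  ((D.commTerms m γ).all fun c =>
    if c.1 = m' then decide (c.2.2.1 = 1) && decide (c.2.1 % 2 = 1)
    else decide (D.IsPosRoot c.1) && decide (m' < c.1)) &&
  ((List.range' (m + 1) (D.nroots - (m + 1))).all fun r =>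
    !(decide (D.IsPosRoot r)) || decide (r = γ) ||
      (decide (γ ≠ D.negIdx.getD r 0) &&
        (D.commTerms r γ).all fun c => decide (D.IsPosRoot c.1) && decide (m' < c.1)))

/-- all rows `(m, γ, m')` of a table pass `ukLTChk` -/
def ukTabChk (D : ChevalleyDatum) (tab : List (ℕ × ℕ × ℕ)) : Bool :=
  tab.all fun e => ukLTChk D e.1 e.2.1 e.2.2

theorem ukTabChk_append (D : ChevalleyDatum) (l1 l2 : List (ℕ × ℕ × ℕ))
    (h1 : ukTabChk D l1 = true) (h2 : ukTabChk D l2 = true) : ukTabChk D (l1 ++ l2) = true := by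
  unfold ukTabChk at *
  rw [List.all_append, h1, h2]
  rfl

/-- every positive root occurs as first component of a row of the table -/
def ukTabCov (D : ChevalleyDatum) (tab : List (ℕ × ℕ × ℕ)) : Bool :=
  (List.range D.nroots).all fun m => !(decide (D.IsPosRoot m)) || tab.any fun e => e.1 == m

/-- the rows of the table go up (`m < m'`) except for the listed exceptional `m` -/
def ukTabUp (tab : List (ℕ × ℕ × ℕ)) (exc : List ℕ) : Bool :=
  tab.all fun e => decide (e.1 < e.2.2) || exc.contains e.1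

/-- relations (characteristic `2`) between the root groups of a `B₂` subsystem -/
structure UkB2Rel {K : Type u} [Field K] {G : Type*} [Group G]
    (Xa Xb Xs Xl Xna Xnb : K → G) : Prop where
  add_a : ∀ t u, Xa t * Xa u = Xa (t + u)
  add_b : ∀ t u, Xb t * Xb u = Xb (t + u)
  add_s : ∀ t u, Xs t * Xs u = Xs (t + u)
  add_l : ∀ t u, Xl t * Xl u = Xl (t + u)
  zero_a : Xa 0 = 1
  zero_b : Xb 0 = 1
  zero_s : Xs 0 = 1
  zero_l : Xl 0 = 1
  r1 : ∀ t u, Xnb u * Xs t = Xs t * Xnb u * (Xa (t * u) * Xl (t ^ 2 * u))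
  r2 : ∀ t u, Xnb u * Xl t = Xl t * Xnb u
  r3 : ∀ t u, Xb u * Xa t = Xa t * Xb u * (Xs (t * u) * Xl (t ^ 2 * u))
  r4 : ∀ t u, Xna u * Xl t = Xl t * Xna u * (Xs (t * u) * Xb (t * u ^ 2))
  r5 : ∀ t u, Xna u * Xs t = Xs t * Xna u
  r6 : ∀ t u, Xs u * Xa t = Xa t * Xs u
  r7a : ∀ t u, Xl u * Xa t = Xa t * Xl u
  r7b : ∀ t u, Xl u * Xb t = Xb t * Xl u
  r7s : ∀ t u, Xl u * Xs t = Xs t * Xl u
  r8 : ∀ t u, Xs u * Xb t = Xb t * Xs u

end Cfsg.Agent.Lib.helper14.BGLUK
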