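import Mathlib
import Cfsg.Agent.Lib.helper14.BGL.UKDefs
import Cfsg.Prelude.Def_ChevB2

/-!
# Project BGL, block UK: tables of leading-term partners `(m, γ, m')` (generated, `decide +kernel`)
-/

set_option autoImplicit false

namespace Cfsg.Agent.Lib.helper14.BGLUK

open Cfsg.Lie Cfsg.Lie.ChevalleyDatum

def ukTab_B2_0 : List (ℕ × ℕ × ℕ) :=
  [(4, 5, 6), (5, 4, 6), (6, 3, 5), (7, 2, 4)]

set_option maxRecDepth 100000 in
theorem ukTabChk_B2_0 : ukTabChk chevB2 ukTab_B2_0 = true := by decide +kernel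

end Cfsg.Agent.Lib.helper14.BGLUK
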