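import Mathlib
import Cfsg.Agent.Lib.helper14.BGL.UKTabB2p

/-!
# Project BGL, block UK: tables of leading-term partners `(m, γ, m')` (generated, `decide +kernel`)
-/

set_option autoImplicit false

namespace Cfsg.Agent.Lib.helper14.BGLUK

open Cfsg.Lie Cfsg.Lie.ChevalleyDatum

def ukTab_B2 : List (ℕ × ℕ × ℕ) :=
  ukTab_B2_0

def ukExc_B2 : List ℕ := [6, 7]

theorem ukTabChk_B2 : ukTabChk chevB2 ukTab_B2 = true :=
  ukTabChk_B2_0

set_option maxRecDepth 100000 in
theorem ukTabCov_B2 : ukTabCov chevB2 ukTab_B2 = true := by decide +kernel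

set_option maxRecDepth 100000 in
theorem ukTabUp_B2 : ukTabUp ukTab_B2 ukExc_B2 = true := by decide +kernel

end Cfsg.Agent.Lib.helper14.BGLUK
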