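import Mathlib
import Cfsg.Agent.Lib.helper14.BGL.UKDefs
import Cfsg.Prelude.Def_ChevD4

/-!
# Project BGL, block UK: tables of leading-term partners `(m, γ, m')` (generated, `decide +kernel`)
-/

set_option autoImplicit false

namespace Cfsg.Agent.Lib.helper14.BGLUK

open Cfsg.Lie Cfsg.Lie.ChevalleyDatum

def ukTab_D4_0 : List (ℕ × ℕ × ℕ) :=
  [(12, 14, 15), (13, 14, 16), (14, 12, 15), (15, 13, 17), (16, 12, 17), (17, 18, 22), (18, 14, 19), (19, 12, 20), (20, 13, 22), (21, 12, 22), (22, 14, 23), (23, 1, 14)]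

set_option maxRecDepth 100000 in
theorem ukTabChk_D4_0 : ukTabChk chevD4 ukTab_D4_0 = true := by decide +kernel

end Cfsg.Agent.Lib.helper14.BGLUK
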