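import Mathlib
import Cfsg.Agent.Lib.helper14.BGL.UKDefs
import Cfsg.Prelude.Def_ChevE6

/-!
# Project BGL, block UK: tables of leading-term partners `(m, γ, m')` (generated, `decide +kernel`)
-/

set_option autoImplicit false

namespace Cfsg.Agent.Lib.helper14.BGLUK

open Cfsg.Lie Cfsg.Lie.ChevalleyDatum

def ukTab_E6_0 : List (ℕ × ℕ × ℕ) :=
  [(36, 37, 38), (37, 36, 38), (38, 39, 41), (39, 37, 40), (40, 36, 41), (41, 42, 45), (42, 39, 43), (43, 37, 44), (44, 36, 45), (45, 46, 52), (46, 39, 47), (47, 37, 48), (48, 36, 49), (49, 42, 52), (50, 37, 51)]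

set_option maxRecDepth 100000 in
theorem ukTabChk_E6_0 : ukTabChk chevE6 ukTab_E6_0 = true := by decide +kernel

def ukTab_E6_1 : List (ℕ × ℕ × ℕ) :=
  [(51, 36, 52), (52, 39, 54), (53, 36, 54), (54, 37, 55), (55, 56, 66), (56, 42, 57), (57, 39, 58), (58, 37, 59), (59, 36, 60), (60, 46, 63), (61, 37, 62), (62, 36, 63), (63, 39, 65), (64, 36, 65), (65, 37, 66), (66, 42, 69), (67, 36, 68), (68, 37, 69), (69, 39, 70), (70, 46, 71), (71, 1, 46)]

set_option maxRecDepth 100000 in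
theorem ukTabChk_E6_1 : ukTabChk chevE6 ukTab_E6_1 = true := by decide +kernel

end Cfsg.Agent.Lib.helper14.BGLUK
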