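import Mathlib
import Cfsg.Agent.Lib.helper14.BGL.UKTabE6p

/-!
# Project BGL, block UK: tables of leading-term partners `(m, γ, m')` (generated, `decide +kernel`)
-/

set_option autoImplicit false

namespace Cfsg.Agent.Lib.helper14.BGLUK

open Cfsg.Lie Cfsg.Lie.ChevalleyDatum

def ukTab_E6 : List (ℕ × ℕ × ℕ) :=
  ukTab_E6_0 ++ ukTab_E6_1

def ukExc_E6 : List ℕ := [71]

theorem ukTabChk_E6 : ukTabChk chevE6 ukTab_E6 = true :=
  ukTabChk_append _ _ _ (ukTabChk_E6_0) ukTabChk_E6_1

set_option maxRecDepth 100000 in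
theorem ukTabCov_E6 : ukTabCov chevE6 ukTab_E6 = true := by decide +kernel

set_option maxRecDepth 100000 in
theorem ukTabUp_E6 : ukTabUp ukTab_E6 ukExc_E6 = true := by decide +kernel

end Cfsg.Agent.Lib.helper14.BGLUK
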