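import Mathlib
import Cfsg.Agent.Lib.helper14.BGL.UKDefs
import Cfsg.Prelude.Def_ChevE7

/-!
# Project BGL, block UK: tables of leading-term partners `(m, γ, m')` (generated, `decide +kernel`)
-/

set_option autoImplicit false

namespace Cfsg.Agent.Lib.helper14.BGLUK

open Cfsg.Lie Cfsg.Lie.ChevalleyDatum

def ukTab_E7_0 : List (ℕ × ℕ × ℕ) :=
  [(63, 64, 65), (64, 63, 65), (65, 66, 68), (66, 64, 67), (67, 63, 68), (68, 69, 72), (69, 66, 70)]

set_option maxRecDepth 100000 in
theorem ukTabChk_E7_0 : ukTabChk chevE7 ukTab_E7_0 = true := by decide +kernel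

def ukTab_E7_1 : List (ℕ × ℕ × ℕ) :=
  [(70, 64, 71), (71, 63, 72), (72, 73, 77), (73, 69, 74), (74, 66, 75), (75, 64, 76), (76, 63, 77), (77, 78, 86)]

set_option maxRecDepth 100000 in
theorem ukTabChk_E7_1 : ukTabChk chevE7 ukTab_E7_1 = true := by decide +kernel

def ukTab_E7_2 : List (ℕ × ℕ × ℕ) :=
  [(78, 69, 79), (79, 66, 80), (80, 64, 81), (81, 63, 82), (82, 73, 86), (83, 66, 84), (84, 64, 85), (85, 63, 86), (86, 69, 89), (87, 64, 88)]

set_option maxRecDepth 100000 in
theorem ukTabChk_E7_2 : ukTabChk chevE7 ukTab_E7_2 = true := by decide +kernel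

def ukTab_E7_3 : List (ℕ × ℕ × ℕ) :=
  [(88, 63, 89), (89, 66, 91), (90, 63, 91), (91, 64, 92), (92, 93, 108), (93, 73, 94), (94, 69, 95), (95, 66, 96), (96, 64, 97), (97, 63, 98), (98, 78, 102), (99, 66, 100), (100, 64, 101), (101, 63, 102)]

set_option maxRecDepth 100000 in
theorem ukTabChk_E7_3 : ukTabChk chevE7 ukTab_E7_3 = true := by decide +kernel

def ukTab_E7_4 : List (ℕ × ℕ × ℕ) :=
  [(102, 69, 105), (103, 64, 104), (104, 63, 105), (105, 66, 107), (106, 63, 107), (107, 64, 108), (108, 73, 114), (109, 64, 110), (110, 63, 111), (111, 66, 113), (112, 63, 113), (113, 64, 114), (114, 69, 117), (115, 63, 116), (116, 64, 117), (117, 66, 118), (118, 78, 122), (119, 63, 120), (120, 64, 121), (121, 66, 122), (122, 69, 123), (123, 73, 124), (124, 93, 125), (125, 1, 93)]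

set_option maxRecDepth 100000 in
theorem ukTabChk_E7_4 : ukTabChk chevE7 ukTab_E7_4 = true := by decide +kernel

end Cfsg.Agent.Lib.helper14.BGLUK
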