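import Mathlib
import Cfsg.Agent.Lib.helper14.BGL.UKTabE7p

/-!
# Project BGL, block UK: tables of leading-term partners `(m, γ, m')` (generated, `decide +kernel`)
-/

set_option autoImplicit false

namespace Cfsg.Agent.Lib.helper14.BGLUK

open Cfsg.Lie Cfsg.Lie.ChevalleyDatum

def ukTab_E7 : List (ℕ × ℕ × ℕ) :=
  ukTab_E7_0 ++ ukTab_E7_1 ++ ukTab_E7_2 ++ ukTab_E7_3 ++ ukTab_E7_4

def ukExc_E7 : List ℕ := [125]

theorem ukTabChk_E7 : ukTabChk chevE7 ukTab_E7 = true :=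
  ukTabChk_append _ _ _ (ukTabChk_append _ _ _ (ukTabChk_append _ _ _ (ukTabChk_append _ _ _ (ukTabChk_E7_0) ukTabChk_E7_1) ukTabChk_E7_2) ukTabChk_E7_3) ukTabChk_E7_4

set_option maxRecDepth 100000 in
theorem ukTabCov_E7 : ukTabCov chevE7 ukTab_E7 = true := by decide +kernel

set_option maxRecDepth 100000 in
theorem ukTabUp_E7 : ukTabUp ukTab_E7 ukExc_E7 = true := by decide +kernel

end Cfsg.Agent.Lib.helper14.BGLUK
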