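import Mathlib
import Cfsg.Agent.Lib.helper14.BGL.UKDefs
import Cfsg.Prelude.Def_ChevE8

/-!
# Project BGL, block UK: tables of leading-term partners `(m, γ, m')` (generated, `decide +kernel`)
-/

set_option autoImplicit false

namespace Cfsg.Agent.Lib.helper14.BGLUK

open Cfsg.Lie Cfsg.Lie.ChevalleyDatum

def ukTab_E8_0 : List (ℕ × ℕ × ℕ) :=
  [(120, 121, 122), (121, 120, 122), (122, 123, 125)]

set_option maxRecDepth 100000 in
theorem ukTabChk_E8_0 : ukTabChk chevE8 ukTab_E8_0 = true := by decide +kernel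

def ukTab_E8_1 : List (ℕ × ℕ × ℕ) :=
  [(123, 121, 124), (124, 120, 125), (125, 126, 129)]

set_option maxRecDepth 100000 in
theorem ukTabChk_E8_1 : ukTabChk chevE8 ukTab_E8_1 = true := by decide +kernel

def ukTab_E8_2 : List (ℕ × ℕ × ℕ) :=
  [(126, 123, 127), (127, 121, 128), (128, 120, 129), (129, 130, 134)]

set_option maxRecDepth 100000 in
theorem ukTabChk_E8_2 : ukTabChk chevE8 ukTab_E8_2 = true := by decide +kernel

def ukTab_E8_3 : List (ℕ × ℕ × ℕ) :=
  [(130, 126, 131), (131, 123, 132), (132, 121, 133), (133, 120, 134)]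

set_option maxRecDepth 100000 in
theorem ukTabChk_E8_3 : ukTabChk chevE8 ukTab_E8_3 = true := by decide +kernel

def ukTab_E8_4 : List (ℕ × ℕ × ℕ) :=
  [(134, 135, 140), (135, 130, 136), (136, 126, 137), (137, 123, 138)]

set_option maxRecDepth 100000 in
theorem ukTabChk_E8_4 : ukTabChk chevE8 ukTab_E8_4 = true := by decide +kernel

def ukTab_E8_5 : List (ℕ × ℕ × ℕ) :=
  [(138, 121, 139), (139, 120, 140), (140, 141, 151), (141, 130, 142)]

set_option maxRecDepth 100000 in
theorem ukTabChk_E8_5 : ukTabChk chevE8 ukTab_E8_5 = true := by decide +kernel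

end Cfsg.Agent.Lib.helper14.BGLUK
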