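import Mathlib
import Cfsg.Agent.Lib.helper14.BGL.UKDefs
import Cfsg.Prelude.Def_ChevE8

/-!
# Project BGL, block UK: tables of leading-term partners `(m, γ, m')` (generated, `decide +kernel`)
-/

set_option autoImplicit false

namespace Cfsg.Agent.Lib.helper14.BGLUK

open Cfsg.Lie Cfsg.Lie.ChevalleyDatum

def ukTab_E8_6 : List (ℕ × ℕ × ℕ) :=
  [(142, 126, 143), (143, 123, 144), (144, 121, 145), (145, 120, 146)]

set_option maxRecDepth 100000 in
theorem ukTabChk_E8_6 : ukTabChk chevE8 ukTab_E8_6 = true := by decide +kernel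

def ukTab_E8_7 : List (ℕ × ℕ × ℕ) :=
  [(146, 135, 151), (147, 126, 148), (148, 123, 149), (149, 121, 150)]

set_option maxRecDepth 100000 in
theorem ukTabChk_E8_7 : ukTabChk chevE8 ukTab_E8_7 = true := by decide +kernel

def ukTab_E8_8 : List (ℕ × ℕ × ℕ) :=
  [(150, 120, 151), (151, 130, 155), (152, 123, 153), (153, 121, 154), (154, 120, 155)]

set_option maxRecDepth 100000 in
theorem ukTabChk_E8_8 : ukTabChk chevE8 ukTab_E8_8 = true := by decide +kernel

def ukTab_E8_9 : List (ℕ × ℕ × ℕ) :=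
  [(155, 126, 158), (156, 121, 157), (157, 120, 158), (158, 123, 160), (159, 120, 160)]

set_option maxRecDepth 100000 in
theorem ukTabChk_E8_9 : ukTabChk chevE8 ukTab_E8_9 = true := by decide +kernel

def ukTab_E8_10 : List (ℕ × ℕ × ℕ) :=
  [(160, 121, 161), (161, 162, 183), (162, 135, 163), (163, 130, 164), (164, 126, 165)]

set_option maxRecDepth 100000 in
theorem ukTabChk_E8_10 : ukTabChk chevE8 ukTab_E8_10 = true := by decide +kernel

def ukTab_E8_11 : List (ℕ × ℕ × ℕ) :=
  [(165, 123, 166), (166, 121, 167), (167, 120, 168), (168, 141, 173), (169, 126, 170), (170, 123, 171)]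

set_option maxRecDepth 100000 in
theorem ukTabChk_E8_11 : ukTabChk chevE8 ukTab_E8_11 = true := by decide +kernel

end Cfsg.Agent.Lib.helper14.BGLUK
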