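import Mathlib
import Cfsg.Agent.Lib.helper14.BGL.UKDefs
import Cfsg.Prelude.Def_ChevE8

/-!
# Project BGL, block UK: tables of leading-term partners `(m, γ, m')` (generated, `decide +kernel`)
-/

set_option autoImplicit false

namespace Cfsg.Agent.Lib.helper14.BGLUK

open Cfsg.Lie Cfsg.Lie.ChevalleyDatum

def ukTab_E8_12 : List (ℕ × ℕ × ℕ) :=
  [(171, 121, 172), (172, 120, 173), (173, 130, 177), (174, 123, 175), (175, 121, 176), (176, 120, 177)]

set_option maxRecDepth 100000 in
theorem ukTabChk_E8_12 : ukTabChk chevE8 ukTab_E8_12 = true := by decide +kernel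

def ukTab_E8_13 : List (ℕ × ℕ × ℕ) :=
  [(177, 126, 180), (178, 121, 179), (179, 120, 180), (180, 123, 182), (181, 120, 182), (182, 121, 183), (183, 135, 193)]

set_option maxRecDepth 100000 in
theorem ukTabChk_E8_13 : ukTabChk chevE8 ukTab_E8_13 = true := by decide +kernel

def ukTab_E8_14 : List (ℕ × ℕ × ℕ) :=
  [(184, 123, 185), (185, 121, 186), (186, 120, 187), (187, 126, 190), (188, 121, 189), (189, 120, 190), (190, 123, 192), (191, 120, 192)]

set_option maxRecDepth 100000 in
theorem ukTabChk_E8_14 : ukTabChk chevE8 ukTab_E8_14 = true := by decide +kernel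

def ukTab_E8_15 : List (ℕ × ℕ × ℕ) :=
  [(192, 121, 193), (193, 130, 199), (194, 121, 195), (195, 120, 196), (196, 123, 198), (197, 120, 198), (198, 121, 199), (199, 126, 202), (200, 120, 201), (201, 121, 202)]

set_option maxRecDepth 100000 in
theorem ukTabChk_E8_15 : ukTabChk chevE8 ukTab_E8_15 = true := by decide +kernel

def ukTab_E8_16 : List (ℕ × ℕ × ℕ) :=
  [(202, 123, 203), (203, 141, 213), (204, 121, 205), (205, 120, 206), (206, 123, 208), (207, 120, 208), (208, 121, 209), (209, 126, 212), (210, 120, 211), (211, 121, 212), (212, 123, 213), (213, 130, 217), (214, 120, 215), (215, 121, 216)]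

set_option maxRecDepth 100000 in
theorem ukTabChk_E8_16 : ukTabChk chevE8 ukTab_E8_16 = true := by decide +kernel

def ukTab_E8_17 : List (ℕ × ℕ × ℕ) :=
  [(216, 123, 217), (217, 126, 218), (218, 135, 223), (219, 120, 220), (220, 121, 221), (221, 123, 222), (222, 126, 223), (223, 130, 224), (224, 141, 225), (225, 162, 233), (226, 120, 227), (227, 121, 228), (228, 123, 229), (229, 126, 230), (230, 130, 231), (231, 135, 232), (232, 141, 234), (233, 135, 234), (234, 130, 235), (235, 126, 236), (236, 123, 237), (237, 121, 238), (238, 120, 239), (239, 1, 120)]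

set_option maxRecDepth 100000 in
theorem ukTabChk_E8_17 : ukTabChk chevE8 ukTab_E8_17 = true := by decide +kernel

end Cfsg.Agent.Lib.helper14.BGLUK
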