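import Mathlib
import Cfsg.Agent.Lib.helper14.BGL.UKTabE8a
import Cfsg.Agent.Lib.helper14.BGL.UKTabE8b
import Cfsg.Agent.Lib.helper14.BGL.UKTabE8c

/-!
# Project BGL, block UK: tables of leading-term partners `(m, γ, m')` (generated, `decide +kernel`)
-/

set_option autoImplicit false

namespace Cfsg.Agent.Lib.helper14.BGLUK

open Cfsg.Lie Cfsg.Lie.ChevalleyDatum

def ukTab_E8 : List (ℕ × ℕ × ℕ) :=
  ukTab_E8_0 ++ ukTab_E8_1 ++ ukTab_E8_2 ++ ukTab_E8_3 ++ ukTab_E8_4 ++ ukTab_E8_5 ++ ukTab_E8_6 ++ ukTab_E8_7 ++ ukTab_E8_8 ++ ukTab_E8_9 ++ ukTab_E8_10 ++ ukTab_E8_11 ++ ukTab_E8_12 ++ ukTab_E8_13 ++ ukTab_E8_14 ++ ukTab_E8_15 ++ ukTab_E8_16 ++ ukTab_E8_17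

def ukExc_E8 : List ℕ := [239]

theorem ukTabChk_E8 : ukTabChk chevE8 ukTab_E8 = true :=
  ukTabChk_append _ _ _ (ukTabChk_append _ _ _ (ukTabChk_append _ _ _ (ukTabChk_append _ _ _ (ukTabChk_append _ _ _ (ukTabChk_append _ _ _ (ukTabChk_append _ _ _ (ukTabChk_append _ _ _ (ukTabChk_append _ _ _ (ukTabChk_append _ _ _ (ukTabChk_append _ _ _ (ukTabChk_append _ _ _ (ukTabChk_append _ _ _ (ukTabChk_append _ _ _ (ukTabChk_append _ _ _ (ukTabChk_append _ _ _ (ukTabChk_append _ _ _ (ukTabChk_E8_0) ukTabChk_E8_1) ukTabChk_E8_2) ukTabChk_E8_3) ukTabChk_E8_4) ukTabChk_E8_5) ukTabChk_E8_6) ukTabChk_E8_7) ukTabChk_E8_8) ukTabChk_E8_9) ukTabChk_E8_10) ukTabChk_E8_11) ukTabChk_E8_12) ukTabChk_E8_13) ukTabChk_E8_14) ukTabChk_E8_15) ukTabChk_E8_16) ukTabChk_E8_17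

set_option maxRecDepth 100000 in
theorem ukTabCov_E8 : ukTabCov chevE8 ukTab_E8 = true := by decide +kernel

set_option maxRecDepth 100000 in
theorem ukTabUp_E8 : ukTabUp ukTab_E8 ukExc_E8 = true := by decide +kernel

end Cfsg.Agent.Lib.helper14.BGLUK
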