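import Mathlib
import Cfsg.Agent.Lib.helper14.BGL.UKDefs
import Cfsg.Prelude.Def_ChevF4

/-!
# Project BGL, block UK: tables of leading-term partners `(m, γ, m')` (generated, `decide +kernel`)
-/

set_option autoImplicit false

namespace Cfsg.Agent.Lib.helper14.BGLUK

open Cfsg.Lie Cfsg.Lie.ChevalleyDatum

def ukTab_F4_0 : List (ℕ × ℕ × ℕ) :=
  [(24, 25, 26), (25, 24, 26), (26, 27, 29), (27, 25, 28), (28, 24, 29), (29, 33, 36), (30, 24, 31), (31, 25, 32), (32, 33, 39), (33, 27, 34), (34, 25, 35), (35, 24, 36), (36, 27, 38), (37, 24, 38), (38, 25, 39), (39, 27, 40), (40, 33, 44), (41, 24, 42), (42, 25, 43), (43, 27, 44), (44, 4, 27), (45, 25, 46), (46, 24, 47), (47, 1, 24)]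

set_option maxRecDepth 100000 in
theorem ukTabChk_F4_0 : ukTabChk chevF4 ukTab_F4_0 = true := by decide +kernel

end Cfsg.Agent.Lib.helper14.BGLUK
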