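import Mathlib
import Cfsg.Agent.Lib.helper14.BGL.UKDefs
import Cfsg.Prelude.Def_ChevG2

/-!
# Project BGL, block UK: tables of leading-term partners `(m, γ, m')` (generated, `decide +kernel`)
-/

set_option autoImplicit false

namespace Cfsg.Agent.Lib.helper14.BGLUK

open Cfsg.Lie Cfsg.Lie.ChevalleyDatum

def ukTab_G2_0 : List (ℕ × ℕ × ℕ) :=
  [(6, 7, 8), (7, 6, 8), (8, 9, 11), (9, 7, 10), (10, 6, 11), (11, 1, 6)]

set_option maxRecDepth 100000 in
theorem ukTabChk_G2_0 : ukTabChk chevG2 ukTab_G2_0 = true := by decide +kernel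

end Cfsg.Agent.Lib.helper14.BGLUK
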